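import Cfsg.Agent.H397.RC.PermBound
import Cfsg.Agent.H183.RC.Defs
import Cfsg.Agent.S2298

/-!
# S3510, row C, task E1: fixed points of elements without eigenvectors (helper397)
-/

set_option autoImplicit false

open Cfsg Matrix Cfsg.Agent.H183.RC

namespace Cfsg.Agent.H397.RC

variable {F : Type*} [Field F] [Finite F]

/-- `det` is onto on the centralizer of an element without eigenvectors -/
theorem exists_comm_det (t : GL (Fin 2) F) (ht : NoEig t) (d : Fˣ) :
    ∃ c : GL (Fin 2) F, Matrix.GeneralLinearGroup.det c = d ∧ c * t = t * c := by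
  classical
  let _ : Fintype F := Fintype.ofFinite F
  -- enough: `x • 1 + y • t` has determinant `d`
  suffices h : ∃ x y : F, Matrix.det (x • (1 : Matrix (Fin 2) (Fin 2) F) + y • (t : Matrix (Fin 2) (Fin 2) F)) = d by
    obtain ⟨x, y, hxy⟩ := h
    refine ⟨Matrix.GeneralLinearGroup.mk'' (x • (1 : Matrix (Fin 2) (Fin 2) F) + y • (t : Matrix (Fin 2) (Fin 2) F))
      (by rw [hxy]; exact d.isUnit), ?_, ?_⟩
    · ext
      rw [Matrix.GeneralLinearGroup.val_det_apply]
      exact hxy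
    · ext1
      change (x • (1 : Matrix (Fin 2) (Fin 2) F) + y • (t : Matrix (Fin 2) (Fin 2) F)) * (t : Matrix (Fin 2) (Fin 2) F) =
        (t : Matrix (Fin 2) (Fin 2) F) * (x • (1 : Matrix (Fin 2) (Fin 2) F) + y • (t : Matrix (Fin 2) (Fin 2) F))
      rw [add_mul, mul_add, smul_mul_assoc, mul_smul_comm, smul_mul_assoc, mul_smul_comm, one_mul, mul_one]
  by_cases h2 : ringChar F = 2
  · obtain ⟨e, he⟩ := FiniteField.isSquare_of_char_two h2 (d : F)
    refine ⟨e, 0, ?_⟩
    rw [zero_smul, add_zero, Matrix.det_smul, Matrix.det_one, mul_one, he]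
    simp [sq]
  · have h2' : (2 : F) ≠ 0 := Ring.two_ne_zero h2
    obtain ⟨e, he⟩ : ∃ e : F, e + e = (t : Matrix (Fin 2) (Fin 2) F) 0 0 + (t : Matrix (Fin 2) (Fin 2) F) 1 1 :=
      ⟨((t : Matrix (Fin 2) (Fin 2) F) 0 0 + (t : Matrix (Fin 2) (Fin 2) F) 1 1) / 2, by field_simp; ring⟩
    have hδ : e ^ 2 - ((t : Matrix (Fin 2) (Fin 2) F) 0 0 * (t : Matrix (Fin 2) (Fin 2) F) 1 1 -
      (t : Matrix (Fin 2) (Fin 2) F) 0 1 * (t : Matrix (Fin 2) (Fin 2) F) 1 0) ≠ 0 := by
      intro h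
      have h1 : Matrix.det ((t : Matrix (Fin 2) (Fin 2) F) - e • (1 : Matrix (Fin 2) (Fin 2) F)) = 0 := by
        rw [Matrix.det_fin_two]
        simp only [Matrix.sub_apply, Matrix.smul_apply, Matrix.one_apply_eq, smul_eq_mul, mul_one, ne_eq,
          zero_ne_one, not_false_eq_true, Matrix.one_apply_ne, one_ne_zero, mul_zero, sub_zero]
        linear_combination -h + e * he
      obtain ⟨v, hv, hv0⟩ := Matrix.exists_mulVec_eq_zero_iff.2 h1
      refine ht e v hv ?_
      rw [Matrix.sub_mulVec, Matrix.smul_mulVec, Matrix.one_mulVec, sub_eq_zero] at hv0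
      exact hv0
    obtain ⟨x, y, hxy⟩ := FiniteField.exists_root_sum_quadratic (R := F) (f := Polynomial.X ^ 2)
      (g := Polynomial.C (-(e ^ 2 - ((t : Matrix (Fin 2) (Fin 2) F) 0 0 * (t : Matrix (Fin 2) (Fin 2) F) 1 1 -
      (t : Matrix (Fin 2) (Fin 2) F) 0 1 * (t : Matrix (Fin 2) (Fin 2) F) 1 0))) * Polynomial.X ^ 2 +
        Polynomial.C 0 * Polynomial.X + Polynomial.C (-(d : F)))
      (Polynomial.degree_X_pow 2) (Polynomial.degree_quadratic (neg_ne_zero.2 hδ))
      (FiniteField.odd_card_of_char_ne_two h2)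
    simp only [Polynomial.eval_pow, Polynomial.eval_X, Polynomial.eval_add, Polynomial.eval_mul,
      Polynomial.eval_C, zero_mul, add_zero] at hxy
    refine ⟨x - y * e, y, ?_⟩
    rw [Matrix.det_fin_two]
    simp only [Matrix.add_apply, Matrix.smul_apply, Matrix.one_apply_eq, smul_eq_mul, mul_one, ne_eq,
      zero_ne_one, not_false_eq_true, Matrix.one_apply_ne, one_ne_zero, mul_zero, zero_add]
    linear_combination hxy - (x - y * e) * y * he

omit [Finite F] in
/-- elements of `SL₂` as elements of the kernel of `det` -/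
theorem card_sl_and (P : GL (Fin 2) F → Prop) :
    Nat.card {s : SL F // P (Matrix.SpecialLinearGroup.toGL s)} =
      Nat.card {g : GL (Fin 2) F // Matrix.GeneralLinearGroup.det g = 1 ∧ P g} := by
  refine Nat.card_congr (Equiv.ofBijective (fun s => ⟨Matrix.SpecialLinearGroup.toGL s.1, ?_, s.2⟩) ⟨?_, ?_⟩)
  · ext
    rw [Matrix.GeneralLinearGroup.val_det_apply]
    exact s.1.2
  · rintro ⟨s, hs⟩ ⟨s', hs'⟩ h
    have h1 : Matrix.SpecialLinearGroup.toGL s = Matrix.SpecialLinearGroup.toGL s' := Subtype.mk.inj h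
    have h2 : (s : Matrix (Fin 2) (Fin 2) F) = s' := congrArg (fun g : GL (Fin 2) F => (g : Matrix (Fin 2) (Fin 2) F)) h1
    exact Subtype.ext (Subtype.ext h2)
  · rintro ⟨g, hg, hP⟩
    have h1 : Matrix.det (g : Matrix (Fin 2) (Fin 2) F) = 1 := by
      rw [← Matrix.GeneralLinearGroup.val_det_apply, hg, Units.val_one]
    have h2 : Matrix.SpecialLinearGroup.toGL (⟨g, h1⟩ : SL F) = g := by
      ext1
      rfl
    exact ⟨⟨⟨g, h1⟩, by rw [h2]; exact hP⟩, Subtype.ext h2⟩

omit [Finite F] in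
theorem det_surj : Function.Surjective (Matrix.GeneralLinearGroup.det : GL (Fin 2) F →* Fˣ) := by
  intro d
  refine ⟨Matrix.GeneralLinearGroup.mk'' !![(d : F), 0; 0, 1] (by rw [Matrix.det_fin_two_of]; simp), ?_⟩
  ext
  rw [Matrix.GeneralLinearGroup.val_det_apply]
  change Matrix.det !![(d : F), 0; 0, 1] = d
  rw [Matrix.det_fin_two_of]
  simp

/-- counting conjugators in `GL₂` and in `SL₂` -/
theorem card_conj (t : GL (Fin 2) F) (ht : NoEig t) (H : Subgroup (GL (Fin 2) F)) :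
    Nat.card {g : GL (Fin 2) F // g⁻¹ * t * g ∈ H} = Nat.card Fˣ *
      Nat.card {s : SL F // (Matrix.SpecialLinearGroup.toGL s)⁻¹ * t * Matrix.SpecialLinearGroup.toGL s ∈ H} := by
  choose c hc1 hc2 using exists_comm_det t ht
  rw [card_sl_and (fun g => g⁻¹ * t * g ∈ H), ← Nat.card_prod]
  have hcc : ∀ (d : Fˣ), (c d)⁻¹ * t * c d = t := fun d => by rw [mul_assoc, ← hc2, ← mul_assoc, inv_mul_cancel, one_mul]
  refine Nat.card_congr ⟨fun g => (Matrix.GeneralLinearGroup.det g.1,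
      ⟨(c (Matrix.GeneralLinearGroup.det g.1))⁻¹ * g.1, ?_, ?_⟩),
    fun x => ⟨c x.1 * x.2.1, ?_⟩, fun g => ?_, fun x => ?_⟩
  · rw [map_mul, map_inv, hc1, inv_mul_cancel]
  · have h1 : ((c (Matrix.GeneralLinearGroup.det g.1))⁻¹ * g.1)⁻¹ * t * ((c (Matrix.GeneralLinearGroup.det g.1))⁻¹ * g.1) =
        g.1⁻¹ * t * g.1 := by
      have h2 := hcc (Matrix.GeneralLinearGroup.det g.1)
      have h3 : c (Matrix.GeneralLinearGroup.det g.1) * t * (c (Matrix.GeneralLinearGroup.det g.1))⁻¹ = t := by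
        rw [hc2, mul_assoc, mul_inv_cancel, mul_one]
      calc ((c (Matrix.GeneralLinearGroup.det g.1))⁻¹ * g.1)⁻¹ * t * ((c (Matrix.GeneralLinearGroup.det g.1))⁻¹ * g.1)
          = g.1⁻¹ * (c (Matrix.GeneralLinearGroup.det g.1) * t * (c (Matrix.GeneralLinearGroup.det g.1))⁻¹) * g.1 := by group
        _ = _ := by rw [h3]
    rw [h1]
    exact g.2
  · have h1 : (c x.1 * x.2.1)⁻¹ * t * (c x.1 * x.2.1) = x.2.1⁻¹ * t * x.2.1 := by
      calc (c x.1 * x.2.1)⁻¹ * t * (c x.1 * x.2.1) = x.2.1⁻¹ * ((c x.1)⁻¹ * t * c x.1) * x.2.1 := by group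
        _ = _ := by rw [hcc]
    rw [h1]
    exact x.2.2.2
  · apply Subtype.ext
    simp
  · obtain ⟨d, g, hg, hP⟩ := x
    have h1 : Matrix.GeneralLinearGroup.det (c d * g) = d := by rw [map_mul, hc1, hg, mul_one]
    refine Prod.ext h1 (Subtype.ext ?_)
    simp [h1]

theorem two_card_ge (H : Subgroup (GL (Fin 2) F))
    (hZ : ∀ (z : GL (Fin 2) F) (c : F), (z : Matrix (Fin 2) (Fin 2) F) = c • (1 : Matrix (Fin 2) (Fin 2) F) → z ∈ H) :
    Nat.card Fˣ * Nat.card (H ⊓ (Matrix.GeneralLinearGroup.det : GL (Fin 2) F →* Fˣ).ker : Subgroup (GL (Fin 2) F)) ≤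
      2 * Nat.card H := by
  classical
  let φ : H →* Fˣ := (Matrix.GeneralLinearGroup.det : GL (Fin 2) F →* Fˣ).comp H.subtype
  have h1 : Nat.card φ.ker * Nat.card φ.range = Nat.card H := by
    rw [← Subgroup.index_ker, Subgroup.card_mul_index]
  have h2 : Nat.card φ.ker =
      Nat.card (H ⊓ (Matrix.GeneralLinearGroup.det : GL (Fin 2) F →* Fˣ).ker : Subgroup (GL (Fin 2) F)) :=
    Nat.card_congr ⟨fun x => ⟨x.1.1, x.1.2, x.2⟩, fun x => ⟨⟨x.1, x.2.1⟩, x.2.2⟩, fun _ => rfl, fun _ => rfl⟩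
  let sq : Fˣ →* Fˣ := powMonoidHom 2
  have h3 : Nat.card sq.ker * Nat.card sq.range = Nat.card Fˣ := by
    rw [← Subgroup.index_ker, Subgroup.card_mul_index]
  have h4 : Nat.card sq.ker ≤ 2 := by
    have h5 : (sq.ker : Set Fˣ) ⊆ {1, -1} := by
      intro z hz
      have h6 : z ^ 2 = 1 := hz
      have h7 : ((z : F)) ^ 2 = 1 := by rw [← Units.val_pow_eq_pow_val, h6, Units.val_one]
      rcases (sq_eq_one_iff.1 h7) with h8 | h8
      · exact Or.inl (Units.ext h8)
      · exact Or.inr (Units.ext (by rw [h8, Units.val_neg, Units.val_one]))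
    have h6 := Set.ncard_le_ncard h5 (Set.toFinite _)
    have h7 : Nat.card sq.ker = (sq.ker : Set Fˣ).ncard := (Nat.card_coe_set_eq _)
    rw [h7]
    exact h6.trans ((Set.ncard_insert_le _ _).trans (by rw [Set.ncard_singleton]))
  have h5 : sq.range ≤ φ.range := by
    rintro _ ⟨z, rfl⟩
    refine ⟨⟨Matrix.GeneralLinearGroup.mk'' ((z : F) • (1 : Matrix (Fin 2) (Fin 2) F)) ?_, hZ _ (z : F) rfl⟩, ?_⟩
    · rw [Matrix.det_smul, Matrix.det_one, mul_one]
      exact (z.isUnit).pow _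
    · ext
      change Matrix.det ((z : F) • (1 : Matrix (Fin 2) (Fin 2) F)) = _
      rw [Matrix.det_smul, Matrix.det_one, mul_one]
      simp [sq]
  have h6 : Nat.card sq.range ≤ Nat.card φ.range := Subgroup.card_le_of_le h5
  rw [← h3, ← h2, ← h1]
  calc Nat.card sq.ker * Nat.card sq.range * Nat.card φ.ker ≤ 2 * Nat.card φ.range * Nat.card φ.ker :=
        Nat.mul_le_mul_right _ (Nat.mul_le_mul h4 h6)
    _ = 2 * (Nat.card φ.ker * Nat.card φ.range) := by ring

/-- E1, with the bound D as a hypothesis -/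
theorem fix_bound_of {F : Type*} [Field F] [Fintype F] (h3 : 3 ≤ Nat.card F)
    (hD : ∀ χ : GL (Fin 2) F → ℂ, Cfsg.IsIrrCharacter (GL (Fin 2) F) χ → χ 1 ≠ 1 → ∀ t : GL (Fin 2) F, NoEig t →
      ((Fintype.card F : ℝ) - 1) * ‖χ t‖ ≤ 2 * ‖χ 1‖)
    (H : Subgroup (GL (Fin 2) F))
    (hZ : ∀ (z : GL (Fin 2) F) (c : F), (z : Matrix (Fin 2) (Fin 2) F) = c • (1 : Matrix (Fin 2) (Fin 2) F) → z ∈ H)
    (hS : ∃ s : SL F, Matrix.SpecialLinearGroup.toGL s ∉ H) :
    (Nat.card F + 1) * Nat.card {s : SL F // Matrix.SpecialLinearGroup.toGL s ∈ H} ≤ 2 * Nat.card (SL F) ∧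
    ∀ t : GL (Fin 2) F, NoEig t →
      (Nat.card F - 1) * Nat.card {s : SL F // (Matrix.SpecialLinearGroup.toGL s)⁻¹ * t *
          Matrix.SpecialLinearGroup.toGL s ∈ H} +
        2 * Nat.card {s : SL F // Matrix.SpecialLinearGroup.toGL s ∈ H} ≤
      (Nat.card F - 1) * Nat.card {s : SL F // Matrix.SpecialLinearGroup.toGL s ∈ H} + 2 * Nat.card (SL F) := by
  classical
  have hq : Nat.card F = Fintype.card F := Nat.card_eq_fintype_card
  have hA : Nat.card Fˣ = Nat.card F - 1 := by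
    rw [hq, ← Fintype.card_units, Nat.card_eq_fintype_card]
  obtain ⟨hdeg, hcount⟩ := Cfsg.Agent.S2298.result (F := F)
  have hcard : Nat.card {χ : IrrCharacter (GL (Fin 2) F) // (χ : GL (Fin 2) F → ℂ) 1 = 1} = Nat.card Fˣ := by
    rw [hA, hq]
    exact (hcount (by rw [← hq]; exact h3)).1
  have hAr : (Nat.card Fˣ : ℝ) = (Fintype.card F : ℝ) - 1 := by
    rw [hA, hq, Nat.cast_sub (by omega), Nat.cast_one]
  have hK : Nat.card {s : SL F // Matrix.SpecialLinearGroup.toGL s ∈ H} =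
      Nat.card (H ⊓ (Matrix.GeneralLinearGroup.det : GL (Fin 2) F →* Fˣ).ker : Subgroup (GL (Fin 2) F)) := by
    rw [card_sl_and (fun g => g ∈ H)]
    exact Nat.card_congr (Equiv.subtypeEquivRight fun g => by
      rw [Subgroup.mem_inf, MonoidHom.mem_ker, and_comm])
  have hSL : Nat.card (SL F) = Nat.card (Matrix.GeneralLinearGroup.det : GL (Fin 2) F →* Fˣ).ker := by
    have h1 := card_sl_and (F := F) (fun _ => True)
    rw [Nat.card_congr (Equiv.subtypeUnivEquiv fun _ => trivial)] at h1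
    rw [h1]
    exact Nat.card_congr (Equiv.subtypeEquivRight fun g => by rw [MonoidHom.mem_ker, and_true])
  have hGL : Nat.card (GL (Fin 2) F) = Nat.card Fˣ * Nat.card (SL F) := by
    have h1 := (Matrix.GeneralLinearGroup.det : GL (Fin 2) F →* Fˣ).ker.card_mul_index
    rw [Subgroup.index_ker, MonoidHom.range_eq_top.2 det_surj, Subgroup.card_top, ← hSL] at h1
    rw [← h1, mul_comm]
  obtain ⟨hp1, hp2⟩ := perm_bound (Matrix.GeneralLinearGroup.det : GL (Fin 2) F →* Fˣ) det_surj hcard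
    (fun χ hχ h1 => by
      rw [hAr]
      have hq1 : (1 : ℝ) ≤ (Fintype.card F : ℝ) := by
        rw [← hq]; exact_mod_cast (by omega : 1 ≤ Nat.card F)
      rcases hdeg χ hχ with h | h | h | h
      · exact absurd h h1
      · rw [h]
        have : ((Fintype.card F : ℂ) - 1) = (((Fintype.card F : ℝ) - 1 : ℝ) : ℂ) := by push_cast; rfl
        rw [this, Complex.norm_real, Real.norm_of_nonneg (by linarith)]
      · rw [h, Complex.norm_natCast]
        linarith
      · rw [h]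
        have : ((Fintype.card F : ℂ) + 1) = ((Fintype.card F + 1 : ℕ) : ℂ) := by push_cast; rfl
        rw [this, Complex.norm_natCast]
        push_cast
        linarith)
    (by omega) H (by
      obtain ⟨s, hs⟩ := hS
      refine ⟨Matrix.SpecialLinearGroup.toGL s, ?_, hs⟩
      rw [MonoidHom.mem_ker]
      ext
      rw [Matrix.GeneralLinearGroup.val_det_apply]
      exact s.2)
  have h2K := two_card_ge H hZ
  rw [← hK] at hp1 h2K
  rw [← hSL] at hp1
  rw [hA] at h2K
  refine ⟨?_, fun t ht => ?_⟩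
  · have h4 : (Nat.card F + 1) = (Nat.card F - 1) + 2 := by omega
    rw [h4, add_mul]
    omega
  · have h5 := hp2 t (fun χ hχ h1 => by rw [hAr]; exact hD χ hχ h1 t ht)
    rw [card_conj t ht H, ← hK, hGL, hA] at h5
    have h6 : 0 < Nat.card F - 1 := by omega
    refine Nat.le_of_mul_le_mul_left (c := Nat.card F - 1) ?_ h6
    calc (Nat.card F - 1) * ((Nat.card F - 1) * Nat.card {s : SL F // (Matrix.SpecialLinearGroup.toGL s)⁻¹ * t *
          Matrix.SpecialLinearGroup.toGL s ∈ H} +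
        2 * Nat.card {s : SL F // Matrix.SpecialLinearGroup.toGL s ∈ H})
        = (Nat.card F - 1) * ((Nat.card F - 1) * Nat.card {s : SL F // (Matrix.SpecialLinearGroup.toGL s)⁻¹ * t *
          Matrix.SpecialLinearGroup.toGL s ∈ H}) +
          2 * ((Nat.card F - 1) * Nat.card {s : SL F // Matrix.SpecialLinearGroup.toGL s ∈ H}) := by ring
      _ ≤ _ := h5
      _ = _ := by ring

end Cfsg.Agent.H397.RC
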