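import Cfsg.Agent.Characters.Core
import Cfsg.Agent.Characters.Linear
import Cfsg.Agent.OddOrderCharacters.IndRes
import Cfsg.Agent.OddOrderCharacters.VChar
import Mathlib.GroupTheory.FiniteAbelian.Duality

/-!
# A bound for the permutation character (S3510, row C, task E1; helper397)

`G` finite, `f : G → A` onto a finite abelian group such that the linear characters of `G` are the `l ∘ f`;
all other irreducible characters have degree at least `D` and satisfy `D |χ(t)| ≤ 2 χ(1)`.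
Then the permutation character of `G` on `G/H` satisfies the corresponding bound.
-/

set_option autoImplicit false

open scoped ComplexConjugate
open Cfsg Cfsg.Agent.Characters.Core Cfsg.Agent.OddOrderCharacters.IndRes

namespace Cfsg.Agent.H397.RC

theorem sum_hom {A : Type*} [CommGroup A] [Finite A] [Fintype (A →* ℂˣ)] (x : A) [Decidable (x = 1)] :
    ∑ l : A →* ℂˣ, ((l x : ℂˣ) : ℂ) = if x = 1 then (Nat.card A : ℂ) else 0 := by
  split_ifs with h
  · subst h
    have h1 := CommGroup.card_monoidHom_of_hasEnoughRootsOfUnity A ℂ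
    simp only [map_one, Units.val_one, Finset.sum_const, Finset.card_univ, nsmul_eq_mul, mul_one]
    rw [← Nat.card_eq_fintype_card, h1]
  · obtain ⟨l0, h0⟩ := CommGroup.exists_apply_ne_one_of_hasEnoughRootsOfUnity A ℂ h
    have h1 : ∑ l : A →* ℂˣ, ((l x : ℂˣ) : ℂ) = ((l0 x : ℂˣ) : ℂ) * ∑ l : A →* ℂˣ, ((l x : ℂˣ) : ℂ) := by
      rw [Finset.mul_sum]
      symm
      refine Fintype.sum_equiv (Equiv.mulLeft l0) _ _ fun l => ?_
      simp
    have h2 : (1 - ((l0 x : ℂˣ) : ℂ)) * ∑ l : A →* ℂˣ, ((l x : ℂˣ) : ℂ) = 0 := by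
      rw [sub_mul, one_mul, ← h1, sub_self]
    rcases mul_eq_zero.1 h2 with h3 | h3
    · exact absurd (Units.ext (sub_eq_zero.1 h3).symm) h0
    · exact h3

section

variable {G A : Type*} [Group G] [Fintype G] [CommGroup A] [Finite A]

/-- the sum of the multiplicities of the linear characters in the permutation character -/
theorem sum_lin [Fintype (IrrCharacter G)] (f : G →* A) (hf : Function.Surjective f)
    (hcard : Nat.card {χ : IrrCharacter G // (χ : G → ℂ) 1 = 1} = Nat.card A)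
    (H : Subgroup G) (m : IrrCharacter G → ℕ)
    (hm : indFun H 1 = ∑ ψ : IrrCharacter G, m ψ • (ψ : G → ℂ))
    [DecidablePred fun χ : IrrCharacter G => (χ : G → ℂ) 1 = 1] :
    (∑ χ ∈ Finset.univ.filter (fun χ : IrrCharacter G => (χ : G → ℂ) 1 = 1), m χ) * Nat.card H =
      Nat.card A * Nat.card (H ⊓ f.ker : Subgroup G) := by
  classical
  have : Finite (A →* ℂˣ) := Nat.finite_of_card_ne_zero (by
    rw [CommGroup.card_monoidHom_of_hasEnoughRootsOfUnity A ℂ]; exact Nat.card_pos.ne')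
  let _ : Fintype (A →* ℂˣ) := Fintype.ofFinite _
  let _ : Fintype H := Fintype.ofFinite _
  have hirr : ∀ l : A →* ℂˣ, IsIrrCharacter G (fun g => ((l (f g) : ℂˣ) : ℂ)) := fun l =>
    Characters.Linear.isIrrCharacter_hom (l.comp f)
  let Φ : (A →* ℂˣ) → {χ : IrrCharacter G // (χ : G → ℂ) 1 = 1} := fun l =>
    ⟨⟨fun g => ((l (f g) : ℂˣ) : ℂ), hirr l⟩, by simp⟩
  have hinj : Function.Injective Φ := by
    intro l l' h
    have h1 : (fun g => ((l (f g) : ℂˣ) : ℂ)) = fun g => ((l' (f g) : ℂˣ) : ℂ) :=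
      congrArg Subtype.val (congrArg Subtype.val h)
    ext a
    obtain ⟨g, rfl⟩ := hf a
    exact congrFun h1 g
  have hbij : Function.Bijective Φ := by
    rw [Nat.bijective_iff_injective_and_card]
    refine ⟨hinj, ?_⟩
    rw [hcard, CommGroup.card_monoidHom_of_hasEnoughRootsOfUnity A ℂ]
  have hsum : ∑ χ ∈ Finset.univ.filter (fun χ : IrrCharacter G => (χ : G → ℂ) 1 = 1), m χ =
      ∑ l : A →* ℂˣ, m (Φ l).1 := by
    rw [Function.Bijective.sum_comp hbij (fun χ => m χ.1)]
    exact Finset.sum_subtype _ (fun x => by simp) m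
  have hval : ∀ l : A →* ℂˣ, (m (Φ l).1 : ℂ) * Nat.card H = ∑ h : H, conj ((l (f h) : ℂˣ) : ℂ) := by
    intro l
    have h1 : classInner (indFun H 1) ((Φ l).1 : G → ℂ) = (m (Φ l).1 : ℂ) := by
      rw [hm, classInner_sum_nsmul_irr]
    have h0 := classInner_indFun_left H (1 : H → ℂ) (isIrr_isClassFunction (hirr l))
    have h2 := h1.symm.trans h0
    rw [h2, classInner_def, mul_comm, ← mul_assoc, mul_inv_cancel₀ card_ne_zero_complex, one_mul]
    refine Finset.sum_congr rfl fun h _ => ?_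
    rw [Pi.one_apply, one_mul]
    rfl
  have hfin : ((∑ l : A →* ℂˣ, m (Φ l).1 : ℕ) : ℂ) * Nat.card H =
      Nat.card A * Nat.card (H ⊓ f.ker : Subgroup G) := by
    rw [Nat.cast_sum, Finset.sum_mul, Finset.sum_congr rfl fun l _ => hval l, Finset.sum_comm]
    have h1 : ∀ h : H, ∑ l : A →* ℂˣ, conj ((l (f h) : ℂˣ) : ℂ) = if f h = 1 then (Nat.card A : ℂ) else 0 := by
      intro h
      rw [← map_sum, sum_hom]
      split_ifs <;> simp
    rw [Finset.sum_congr rfl fun h _ => h1 h, ← Finset.sum_filter, Finset.sum_const, nsmul_eq_mul, mul_comm]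
    congr 2
    rw [← Fintype.card_subtype, ← Nat.card_eq_fintype_card]
    refine Nat.card_congr ⟨fun x => ⟨x.1.1, x.1.2, x.2⟩, fun x => ⟨⟨x.1, x.2.1⟩, x.2.2⟩, fun _ => rfl, fun _ => rfl⟩
  rw [hsum]
  exact_mod_cast hfin

/-- the bound for the permutation character -/
theorem perm_bound (f : G →* A) (hf : Function.Surjective f)
    (hcard : Nat.card {χ : IrrCharacter G // (χ : G → ℂ) 1 = 1} = Nat.card A)
    (hdeg : ∀ χ : G → ℂ, IsIrrCharacter G χ → χ 1 ≠ 1 → (Nat.card A : ℝ) ≤ ‖χ 1‖)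
    (hA : 2 ≤ Nat.card A) (H : Subgroup G) (hS : ∃ s ∈ f.ker, s ∉ H) :
    Nat.card H + Nat.card (H ⊓ f.ker : Subgroup G) ≤ Nat.card f.ker ∧
    ∀ t : G, (∀ χ : G → ℂ, IsIrrCharacter G χ → χ 1 ≠ 1 → (Nat.card A : ℝ) * ‖χ t‖ ≤ 2 * ‖χ 1‖) →
      Nat.card A * Nat.card {g : G // g⁻¹ * t * g ∈ H} + 2 * (Nat.card A * Nat.card (H ⊓ f.ker : Subgroup G)) ≤
        Nat.card A * (Nat.card A * Nat.card (H ⊓ f.ker : Subgroup G)) + 2 * Nat.card G := by
  classical
  have : Finite (IrrCharacter G) := finite_irr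
  let _ : Fintype (IrrCharacter G) := Fintype.ofFinite _
  let _ : Fintype H := Fintype.ofFinite _
  have hchar : IsCharacter G (indFun H 1) := isCharacter_indFun H isCharacter_one
  obtain ⟨m, hm⟩ := exists_nat_comb hchar
  have hlin := sum_lin f hf hcard H m hm
  set L : Finset (IrrCharacter G) := Finset.univ.filter (fun χ : IrrCharacter G => (χ : G → ℂ) 1 = 1) with hL
  set a : ℕ := ∑ χ ∈ L, m χ with ha
  have hHpos : 0 < Nat.card H := Nat.card_pos
  have hdec : ∀ g : G, indFun H 1 g = ∑ χ ∈ L, (m χ : ℂ) * (χ : G → ℂ) g +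
      ∑ χ ∈ Lᶜ, (m χ : ℂ) * (χ : G → ℂ) g := by
    intro g
    rw [Finset.sum_add_sum_compl, hm, Finset.sum_apply]
    exact Finset.sum_congr rfl fun χ _ => by simp [nsmul_eq_mul]
  have hd : ∀ χ : IrrCharacter G, ∃ n : ℕ, 0 < n ∧ (χ : G → ℂ) 1 = n := fun χ => isIrr_apply_one χ.2
  choose d hd0 hd1 using hd
  have hLone : ∀ χ ∈ L, (χ : G → ℂ) 1 = 1 := fun χ h => by rw [hL, Finset.mem_filter] at h; exact h.2
  have hLne : ∀ χ ∈ Lᶜ, (χ : G → ℂ) 1 ≠ 1 := fun χ h => by
    rw [Finset.mem_compl, hL, Finset.mem_filter] at h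
    exact fun h' => h ⟨Finset.mem_univ _, h'⟩
  have hone : (H.index : ℂ) = (a : ℂ) + ((∑ χ ∈ Lᶜ, m χ * d χ : ℕ) : ℂ) := by
    have h1 := hdec 1
    rw [indFun_apply_one, Pi.one_apply, mul_one] at h1
    rw [h1, ha]
    push_cast
    congr 1
    · exact Finset.sum_congr rfl fun χ h => by rw [hLone χ h, mul_one]
    · exact Finset.sum_congr rfl fun χ _ => by rw [hd1]
  have honeN : H.index = a + ∑ χ ∈ Lᶜ, m χ * d χ := by exact_mod_cast hone
  have hidx : H.index * Nat.card H = Nat.card G := by rw [mul_comm]; exact H.card_mul_index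
  have hGA : Nat.card G = Nat.card A * Nat.card f.ker := by
    have h1 := f.ker.card_mul_index
    rw [Subgroup.index_ker, (MonoidHom.range_eq_top.2 hf), Subgroup.card_top] at h1
    rw [← h1, mul_comm]
  set K := Nat.card (H ⊓ f.ker : Subgroup G) with hK
  have hKle : K < Nat.card f.ker := by
    obtain ⟨s, hs, hsH⟩ := hS
    refine lt_of_le_of_ne (Nat.card_le_card_of_injective (fun x : (H ⊓ f.ker : Subgroup G) =>
      (⟨x.1, x.2.2⟩ : f.ker)) fun x y h => Subtype.ext (Subtype.mk.inj h)) fun h => ?_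
    have h1 : (H ⊓ f.ker : Subgroup G) = f.ker :=
      Subgroup.eq_of_le_of_card_ge inf_le_right (le_of_eq (by rw [← hK, h]))
    have h2 : s ∈ (H ⊓ f.ker : Subgroup G) := by rw [h1]; exact hs
    exact hsH h2.1
  have hAD : (2 : ℝ) ≤ Nat.card A := by exact_mod_cast hA
  have hdA : ∀ χ ∈ Lᶜ, Nat.card A ≤ d χ := fun χ h => by
    have h1 := hdeg χ χ.2 (hLne χ h)
    rw [hd1, Complex.norm_natCast] at h1
    exact_mod_cast h1
  refine ⟨?_, fun t ht => ?_⟩
  · -- some nonlinear constituent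
    have hne : ∃ χ ∈ Lᶜ, m χ ≠ 0 := by
      by_contra hcon
      push Not at hcon
      have h1 : ∑ χ ∈ Lᶜ, m χ * d χ = 0 := Finset.sum_eq_zero fun χ h => by rw [hcon χ h, zero_mul]
      rw [h1, add_zero] at honeN
      rw [← honeN, hidx, hGA] at hlin
      exact absurd (Nat.eq_of_mul_eq_mul_left (by omega) hlin) hKle.ne'
    obtain ⟨χ, hχ, hmχ⟩ := hne
    have h1 : Nat.card A ≤ ∑ χ ∈ Lᶜ, m χ * d χ :=
      le_trans (le_trans (hdA χ hχ) (Nat.le_mul_of_pos_left _ (Nat.pos_of_ne_zero hmχ)))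
        (Finset.single_le_sum (f := fun χ => m χ * d χ) (fun _ _ => Nat.zero_le _) hχ)
    have h2 : a + Nat.card A ≤ H.index := by rw [honeN]; omega
    have h3 : (a + Nat.card A) * Nat.card H ≤ Nat.card A * Nat.card f.ker := by
      rw [← hGA, ← hidx]; exact Nat.mul_le_mul_right _ h2
    rw [add_mul, hlin, ← mul_add] at h3
    have h4 := Nat.le_of_mul_le_mul_left h3 (by omega)
    omega
  · -- the value at `t`
    have hπ : indFun H 1 t * Nat.card H = (Nat.card {g : G // g⁻¹ * t * g ∈ H} : ℂ) := by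
      rw [indFun_apply, mul_comm, ← mul_assoc, mul_inv_cancel₀ card_ne_zero_complex, one_mul]
      rw [Nat.card_eq_fintype_card, Fintype.card_subtype, Finset.card_eq_sum_ones, Finset.sum_filter]
      push_cast
      refine Finset.sum_congr rfl fun g _ => ?_
      split_ifs with h
      · rw [extendByZero_of_mem H _ h, Pi.one_apply]
      · rw [extendByZero_of_notMem H _ h]
    have hnorm : (Nat.card A : ℝ) * ‖indFun H 1 t‖ ≤ Nat.card A * a + 2 * (∑ χ ∈ Lᶜ, m χ * d χ : ℕ) := by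
      rw [hdec t]
      calc (Nat.card A : ℝ) * ‖∑ χ ∈ L, (m χ : ℂ) * (χ : G → ℂ) t + ∑ χ ∈ Lᶜ, (m χ : ℂ) * (χ : G → ℂ) t‖
          ≤ Nat.card A * (∑ χ ∈ L, (m χ : ℝ) + ∑ χ ∈ Lᶜ, (m χ : ℝ) * ‖(χ : G → ℂ) t‖) := by
            refine mul_le_mul_of_nonneg_left ?_ (by positivity)
            refine le_trans (norm_add_le _ _) (add_le_add ?_ ?_)
            · refine le_trans (norm_sum_le _ _) (Finset.sum_le_sum fun χ h => ?_)
              rw [norm_mul, Complex.norm_natCast]
              have h1 : ‖(χ : G → ℂ) t‖ ≤ 1 := by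
                obtain ⟨l, hl⟩ := Characters.Linear.exists_hom_of_isIrrCharacter χ.2 (hLone χ h)
                rw [hl]
                exact (Characters.Linear.norm_hom_apply l t).le
              exact mul_le_of_le_one_right (by positivity) h1
            · refine le_trans (norm_sum_le _ _) (Finset.sum_le_sum fun χ h => ?_)
              rw [norm_mul, Complex.norm_natCast]
        _ ≤ Nat.card A * a + 2 * (∑ χ ∈ Lᶜ, m χ * d χ : ℕ) := by
            rw [mul_add, ha]
            push_cast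
            refine add_le_add le_rfl ?_
            rw [Finset.mul_sum, Finset.mul_sum]
            refine Finset.sum_le_sum fun χ h => ?_
            have h1 := ht χ χ.2 (hLne χ h)
            rw [hd1, Complex.norm_natCast] at h1
            calc (Nat.card A : ℝ) * ((m χ : ℝ) * ‖(χ : G → ℂ) t‖)
                = (m χ : ℝ) * (Nat.card A * ‖(χ : G → ℂ) t‖) := by ring
              _ ≤ (m χ : ℝ) * (2 * d χ) := mul_le_mul_of_nonneg_left h1 (by positivity)
              _ = 2 * ((m χ : ℝ) * d χ) := by ring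
    have hπ2 : ‖indFun H 1 t‖ * Nat.card H = (Nat.card {g : G // g⁻¹ * t * g ∈ H} : ℝ) := by
      have := congrArg norm hπ
      rwa [norm_mul, Complex.norm_natCast, Complex.norm_natCast] at this
    have h5 : (Nat.card A : ℝ) * (Nat.card {g : G // g⁻¹ * t * g ∈ H} : ℝ) ≤
        (Nat.card A * a + 2 * (∑ χ ∈ Lᶜ, m χ * d χ : ℕ)) * Nat.card H := by
      rw [← hπ2, ← mul_assoc]
      exact mul_le_mul_of_nonneg_right hnorm (by positivity)
    have h6 : Nat.card A * Nat.card {g : G // g⁻¹ * t * g ∈ H} ≤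
        (Nat.card A * a + 2 * (∑ χ ∈ Lᶜ, m χ * d χ)) * Nat.card H := by exact_mod_cast h5
    have h7 : (∑ χ ∈ Lᶜ, m χ * d χ) * Nat.card H + Nat.card A * K = Nat.card G := by
      rw [← hlin, ← hidx, honeN]; ring
    calc Nat.card A * Nat.card {g : G // g⁻¹ * t * g ∈ H} + 2 * (Nat.card A * K)
        ≤ (Nat.card A * a + 2 * (∑ χ ∈ Lᶜ, m χ * d χ)) * Nat.card H + 2 * (Nat.card A * K) := by omega
      _ = Nat.card A * (a * Nat.card H) + 2 * ((∑ χ ∈ Lᶜ, m χ * d χ) * Nat.card H + Nat.card A * K) := by ring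
      _ = Nat.card A * (Nat.card A * K) + 2 * Nat.card G := by rw [hlin, h7]

end

end Cfsg.Agent.H397.RC
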